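import Groth.Agent.Dual22Lib.RpushBound
import Groth.Agent.Dual22Lib.RepLib
import Groth.Agent.SiteDer16.RpushBounded
import Groth.Agent.DCat.PullPush

/-!
# Bounds for right derived functors on bounded objects with quasi-coherent cohomology
-/

set_option autoImplicit false
set_option backward.isDefEq.respectTransparency false
set_option backward.isDefEq.respectTransparency.types false
set_option linter.style.haveILetI false

universe u

open CategoryTheory CategoryTheory.Limits DerivedCategory AlgebraicGeometry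
open Groth.Agent Groth.Agent.DCat Groth.Agent.Dual22Lib

namespace Groth.Agent.RFBound17

attribute [local instance] HasDerivedCategory.standard
attribute [-instance] Int.instConditionallyCompleteLinearOrder

variable {X : Scheme.{u}} (F : X.Modules ⥤ AddCommGrpCat.{u}) [F.Additive] [HasInjectiveResolutions X.Modules]
  [(F.mapHomotopyCategory (ComplexShape.up ℤ) ⋙ DerivedCategory.Qh).HasRightDerivedFunctor
    (HomotopyCategory.quasiIso X.Modules (ComplexShape.up ℤ))]

/-- The total right derived functor. -/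
noncomputable abbrev RFd : DCoh.D X ⥤ DerivedCategory AddCommGrpCat.{u} :=
  (F.mapHomotopyCategory (ComplexShape.up ℤ) ⋙ DerivedCategory.Qh).totalRightDerived
    DerivedCategory.Qh (HomotopyCategory.quasiIso X.Modules (ComplexShape.up ℤ))

theorem isLE_single (N : ℕ) (hN : ∀ G : X.Modules, Coh.IsQCoh G → ∀ p : ℕ, N ≤ p → IsZero ((F.rightDerived p).obj G))
    (M : X.Modules) (hM : Coh.IsQCoh M) :
    ((RFd F).obj ((singleFunctor X.Modules 0).obj M)).IsLE ((N : ℤ) - 1) := by
  haveI : EnoughInjectives X.Modules := IsGrothendieckAbelian.enoughInjectives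
  haveI := SiteDer16.isGE_totalRightDerived (modules_enoughKInj X) F ((singleFunctor X.Modules 0).obj M) 0
  refine (DerivedCategory.isLE_iff _ _).2 fun i hi => ?_
  rcases lt_or_ge i 0 with h | h
  · exact isZero_of_isGE _ 0 i h
  · obtain ⟨p, rfl⟩ := Int.eq_ofNat_of_zero_le h
    obtain ⟨e⟩ := SiteDer16.nonempty_iso_homology_single (modules_enoughKInj X) F M p
    exact (hN M hM p (by omega)).of_iso e

theorem isLE_RF (N : ℕ) (hN : ∀ G : X.Modules, Coh.IsQCoh G → ∀ p : ℕ, N ≤ p → IsZero ((F.rightDerived p).obj G))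
    (E : DCoh.D X) (c d : ℤ) [E.IsGE c] [E.IsLE d] (hE : DCoh.IsQCohD E) :
    ((RFd F).obj E).IsLE (d + ((N : ℤ) - 1)) := by
  obtain ⟨_, _⟩ := exists_commShift_rf (modules_enoughKInj X) (F.mapHomotopyCategory (ComplexShape.up ℤ) ⋙ DerivedCategory.Qh)
  let t : Triangulated.TStructure (DCoh.D X) := DerivedCategory.TStructure.t
  let tS : Triangulated.TStructure (DerivedCategory AddCommGrpCat.{u}) := DerivedCategory.TStructure.t
  suffices ∀ (n : ℕ) (K : DCoh.D X), K.IsGE c → K.IsLE (c + n - 1) → K.IsLE d → DCoh.IsQCohD K →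
      ((RFd F).obj K).IsLE (d + ((N : ℤ) - 1)) from
    this (d - c + 1).toNat E inferInstance (t.isLE_of_le E d _ (by omega)) inferInstance hE
  intro n
  induction n with
  | zero =>
    intro K _ _ _ _
    exact (DerivedCategory.isLE_iff _ _).2 fun i _ => (DerivedCategory.homologyFunctor _ i).map_isZero
      ((RFd F).map_isZero (WayOut.isZero_of_isGE_of_isLE K c (c + ((0 : ℕ) : ℤ) - 1) (by omega)))
  | succ n ih =>
    intro K hge hle hd hK
    by_cases hnd : d ≤ c + n - 1
    · exact ih K hge (t.isLE_of_le K d _ hnd) hd hK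
    let e : ℤ := c + n
    have hKlt : (t.truncLT e |>.obj K).IsLE (e - 1) := t.isLE_truncLT_obj _ _ _ (by omega)
    haveI h₁ : ((RFd F).obj (t.truncLT e |>.obj K)).IsLE (d + ((N : ℤ) - 1)) :=
      ih _ inferInstance hKlt (t.isLE_of_le _ (e - 1) _ (by omega)) (DQCoh.isQCohD_truncLT K hK e)
    haveI : K.IsLE e := t.isLE_of_le K (c + (n + 1 : ℕ) - 1) _ (by omega)
    obtain ⟨M, ⟨iso⟩⟩ := DerivedCategory.exists_iso_singleFunctor_obj_of_isGE_of_isLE (t.truncGE e |>.obj K) e
    have hM : Coh.IsQCoh M := Coherent.isQCoh_of_iso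
      (((DerivedCategory.homologyFunctor X.Modules e).mapIso iso) ≪≫
        (DerivedCategory.singleFunctorCompHomologyFunctorIso X.Modules e).app M)
      (h := DQCoh.isQCohD_obj₃ (t.triangleLTGE_distinguished e K) (DQCoh.isQCohD_truncLT K hK e) hK e)
    haveI := isLE_single F N hN M hM
    haveI : (((RFd F).obj ((singleFunctor X.Modules 0).obj M))⟦-e⟧).IsLE (d + ((N : ℤ) - 1)) := by
      haveI := tS.isLE_shift ((RFd F).obj ((singleFunctor X.Modules 0).obj M)) ((N : ℤ) - 1) (-e) ((N : ℤ) - 1 + e) (by omega)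
      exact tS.isLE_of_le _ ((N : ℤ) - 1 + e) _ (by omega)
    haveI h₃ : ((RFd F).obj (t.truncGE e |>.obj K)).IsLE (d + ((N : ℤ) - 1)) :=
      @Triangulated.TStructure.isLE_of_iso _ _ _ _ _ _ _ tS _ _ ((RFd F).mapIso (iso ≪≫ WayOut.singleIso M e) ≪≫
        ((RFd F).commShiftIso (-e)).app _).symm (d + ((N : ℤ) - 1)) ‹_›
    exact tS.isLE₂ _ ((RFd F).map_distinguished _ (t.triangleLTGE_distinguished e K)) _ h₁ h₃

theorem isZero_homology_RF (N : ℕ) (hN : ∀ G : X.Modules, Coh.IsQCoh G → ∀ p : ℕ, N ≤ p → IsZero ((F.rightDerived p).obj G))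
    (E : DCoh.D X) (hE : DCoh.IsQCohD E) (a b : ℤ) (hab : ∀ i : ℤ, i < a ∨ b < i → IsZero (DCoh.HD E i))
    (i : ℤ) (hi : i < a ∨ b + N - 1 < i) :
    IsZero ((DerivedCategory.homologyFunctor AddCommGrpCat.{u} i).obj ((RFd F).obj E)) := by
  haveI : E.IsGE a := (DerivedCategory.isGE_iff _ _).2 fun j hj => hab j (Or.inl hj)
  haveI : E.IsLE b := (DerivedCategory.isLE_iff _ _).2 fun j hj => hab j (Or.inr hj)
  rcases hi with hi | hi
  · haveI : EnoughInjectives X.Modules := IsGrothendieckAbelian.enoughInjectives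
    haveI := SiteDer16.isGE_totalRightDerived (modules_enoughKInj X) F E a
    exact isZero_of_isGE _ a i hi
  · haveI := isLE_RF F N hN E a b hE
    exact isZero_of_isLE _ (b + ((N : ℤ) - 1)) i (by omega)

end Groth.Agent.RFBound17
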